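import Groth.Agent.S2302
import Groth.Agent.RankLocus.Basic
import Groth.Prelude.Def_FSch3

/-!
# Locally free completions
-/

set_option autoImplicit false

universe u

open CategoryTheory CategoryTheory.Limits AlgebraicGeometry TopologicalSpace

namespace Groth.Agent.FComplNhd

open Groth.Agent.PullStalk.Sky Groth.Agent.PullStalk.Exact Groth.Agent.PullStalk.Basic

/-- A base change along a surjection which is free of rank `r`. -/
theorem free_baseChange {R S M N : Type u} [CommRing R] [CommRing S] [Algebra R S] [AddCommGroup M] [Module R M]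
    [AddCommGroup N] [Module R N] [Module S N] [IsScalarTower R S N] {f : M →ₗ[R] N} (hf : IsBaseChange S f)
    (hs : Function.Surjective (algebraMap R S)) {r : ℕ} (b : Module.Basis (Fin r) S N) :
    (∃ m : Fin r → M, (⊤ : Submodule R M) ≤
        Submodule.span R (Set.range m) ⊔ RingHom.ker (algebraMap R S) • (⊤ : Submodule R M)) ∧
      ∀ m : Fin r → M, Submodule.span R (Set.range m) = ⊤ → ∀ v : Fin r → R, ∑ i, v i • m i = 0 →
        ∀ i, v i ∈ RingHom.ker (algebraMap R S) := by
  have hsurj : Function.Surjective f := fun y => by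
    refine hf.inductionOn y (fun y => ∃ x, f x = y) ⟨0, map_zero f⟩ (fun x => ⟨x, rfl⟩) ?_ ?_
    · rintro s _ ⟨x, rfl⟩
      obtain ⟨a, rfl⟩ := hs s
      exact ⟨a • x, by rw [map_smul, algebraMap_smul]⟩
    · rintro _ _ ⟨x, rfl⟩ ⟨y, rfl⟩
      exact ⟨x + y, map_add f x y⟩
  refine ⟨?_, fun m hm v hv i => ?_⟩
  · choose m hm using fun i => hsurj (b i)
    refine ⟨m, fun c _ => ?_⟩
    choose a ha using fun i => hs (b.repr (f c) i)
    have h0 : f (c - ∑ i, a i • m i) = 0 := by
      rw [map_sub, map_sum, sub_eq_zero]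
      conv_lhs => rw [← b.sum_repr (f c)]
      exact Finset.sum_congr rfl fun i _ => by rw [map_smul, hm, ← ha, algebraMap_smul]
    have h1 := S2302.mem_smul_top_of_isBaseChange hf hs _ h0
    have h2 : ∑ i, a i • m i ∈ Submodule.span R (Set.range m) :=
      Submodule.sum_mem _ fun i _ => Submodule.smul_mem _ _ (Submodule.subset_span ⟨i, rfl⟩)
    have := Submodule.add_mem_sup h2 h1
    rwa [add_sub_cancel] at this
  · let φ := Fintype.linearCombination S (fun j => f (m j))
    have hφ : Function.Surjective φ := fun y => by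
      obtain ⟨x, rfl⟩ := hsurj y
      obtain ⟨c, rfl⟩ := (Submodule.mem_span_range_iff_exists_fun R).1 (hm ▸ Submodule.mem_top : x ∈ _)
      refine ⟨fun j => algebraMap R S (c j), ?_⟩
      simp only [φ, Fintype.linearCombination_apply, map_sum, map_smul, algebraMap_smul]
    have hinj : Function.Injective φ := fun x y hxy =>
      OrzechProperty.injective_of_surjective_endomorphism (b.equivFun.toLinearMap ∘ₗ φ)
        (b.equivFun.surjective.comp hφ) (congrArg b.equivFun hxy)
    have h0 : φ (fun j => algebraMap R S (v j)) = φ 0 := by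
      rw [map_zero, Fintype.linearCombination_apply]
      simp only [algebraMap_smul, ← map_smul, ← map_sum, hv, map_zero]
    exact congrFun (hinj h0) i

variable {X : Scheme.{u}} (J : X.IdealSheafData)

/-- The ideal of the closed subscheme at a point. -/
noncomputable abbrev stalkIdl (W : X.affineOpens) (x : X) (hxW : x ∈ W.1) : Ideal (X.presheaf.stalk x) :=
  (J.ideal W).map (X.presheaf.germ W.1 x hxW).hom

theorem step (F : X.Modules) [F.IsQuasicoherent] {r : ℕ} (n : ℕ)
    (h : FlatMod.IsFinLocFreeOfRank r ((Scheme.Modules.pullback (J ^ (n + 1)).subschemeι).obj F))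
    (W : X.affineOpens) (x : X) (hxW : x ∈ W.1) (hx : x ∈ J.support) :
    (∃ m : Fin r → F.presheaf.stalk x, (⊤ : Submodule (X.presheaf.stalk x) (F.presheaf.stalk x)) ≤
        Submodule.span (X.presheaf.stalk x) (Set.range m) ⊔
          IsLocalRing.maximalIdeal (X.presheaf.stalk x) • ⊤) ∧
      ∀ m : Fin r → F.presheaf.stalk x, Submodule.span (X.presheaf.stalk x) (Set.range m) = ⊤ →
        ∀ v : Fin r → X.presheaf.stalk x, ∑ i, v i • m i = 0 → ∀ i, v i ∈ stalkIdl J W x hxW ^ (n + 1) := by
  let i := (J ^ (n + 1)).subschemeι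
  obtain ⟨z, rfl⟩ : x ∈ Set.range i := by
    rw [Scheme.IdealSheafData.range_subschemeι, Scheme.IdealSheafData.support_pow_succ]
    exact hx
  let := (i.stalkMap z).hom.toAlgebra
  let := moduleOver i F z
  have : IsScalarTower (X.presheaf.stalk (i z)) ((J ^ (n + 1)).subscheme.presheaf.stalk z)
      (((Scheme.Modules.pullback i).obj F).presheaf.stalk z) :=
    IsScalarTower.of_algebraMap_smul fun _ _ => rfl
  obtain ⟨hfree, hrk⟩ := RankLocus.free_finrank_stalk h z
  haveI : Module.Finite ((J ^ (n + 1)).subscheme.presheaf.stalk z)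
      (((Scheme.Modules.pullback i).obj F).presheaf.stalk z) := by
    obtain ⟨U, hU, hzU, -⟩ := exists_isAffineOpen_mem_and_subset (Opens.mem_top z)
    obtain ⟨V, hzV, ⟨e⟩⟩ := h z
    obtain ⟨U', hU', hzU', hU'V⟩ := exists_isAffineOpen_mem_and_subset hzV
    obtain ⟨b⟩ := Props.QProj.free_sections_of_restrict_iso _ e hU' hU'V
    haveI := Module.Finite.of_basis b
    exact Props.QProj.finite_stalk _ hU' hzU'
  let b : Module.Basis (Fin r) ((J ^ (n + 1)).subscheme.presheaf.stalk z)
      (((Scheme.Modules.pullback i).obj F).presheaf.stalk z) := Module.finBasisOfFinrankEq _ _ hrk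
  obtain ⟨⟨m, hm⟩, h2⟩ := free_baseChange (isBaseChange_unitStalk i F z) (i.stalkMap_surjective z) b
  refine ⟨⟨m, hm.trans (sup_le_sup le_rfl (Submodule.smul_mono_left ?_))⟩, fun m hm v hv j => ?_⟩
  · exact IsLocalRing.le_maximalIdeal (RingHom.ker_ne_top _)
  · have hle : RingHom.ker (algebraMap (X.presheaf.stalk (i z)) ((J ^ (n + 1)).subscheme.presheaf.stalk z)) ≤
        stalkIdl J W (i z) hxW ^ (n + 1) := by
      refine le_trans (AlgSp.CartierSk.ker_stalkMap_le (J ^ (n + 1)) W z hxW) ?_
      rw [Scheme.IdealSheafData.ideal_pow, Pi.pow_apply, Ideal.map_pow]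
    exact hle (h2 m hm v hv j)

theorem exists_basis_stalk [IsLocallyNoetherian X] (F : X.Modules) (hF : Coh.IsCoh F) {r : ℕ}
    (h : ∀ n : ℕ, FlatMod.IsFinLocFreeOfRank r ((Scheme.Modules.pullback (J ^ (n + 1)).subschemeι).obj F))
    (x : X) (hx : x ∈ J.support) :
    Nonempty (Module.Basis (Fin r) (X.presheaf.stalk x) (F.presheaf.stalk x)) := by
  haveI := hF.1
  haveI := FDesc.QuasiFlat.finite_stalk_of_isCoh F hF x
  obtain ⟨W, hW, hxW, -⟩ := exists_isAffineOpen_mem_and_subset (Opens.mem_top x)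
  obtain ⟨⟨m, hm⟩, -⟩ := step J F 0 (h 0) ⟨W, hW⟩ x hxW hx
  have hspan : Submodule.span (X.presheaf.stalk x) (Set.range m) = ⊤ :=
    top_unique (Submodule.le_of_le_smul_of_le_jacobson_bot Module.Finite.fg_top
      (IsLocalRing.jacobson_eq_maximalIdeal _ bot_ne_top).ge hm)
  have hI : stalkIdl J ⟨W, hW⟩ x hxW ≠ ⊤ := by
    refine ne_top_of_le_ne_top (IsLocalRing.maximalIdeal.isMaximal _).ne_top ?_
    rw [Ideal.map_le_iff_le_comap]
    intro g hg
    have h0 := (Scheme.IdealSheafData.mem_support_iff_of_mem (I := J) (U := ⟨W, hW⟩) hxW).mp hx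
    exact fun hu => (Scheme.mem_zeroLocus_iff _ _ _).mp h0 g hg ((X.mem_basicOpen g x hxW).mpr hu)
  have hli : LinearIndependent (X.presheaf.stalk x) m := Fintype.linearIndependent_iff.2 fun v hv j => by
    have hall : v j ∈ (⨅ k : ℕ, stalkIdl J ⟨W, hW⟩ x hxW ^ k) := by
      refine Ideal.mem_iInf.2 fun k => ?_
      rcases k with _ | k
      · rw [pow_zero, Ideal.one_eq_top]; trivial
      · exact (step J F k (h k) ⟨W, hW⟩ x hxW hx).2 m hspan v hv j
    rwa [Ideal.iInf_pow_eq_bot_of_isLocalRing _ hI] at hall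
  exact ⟨Module.Basis.mk hli hspan.ge⟩

theorem exists_free_nhd [IsLocallyNoetherian X] (F : X.Modules) (hF : Coh.IsCoh F) {r : ℕ} (x : X)
    (b : Module.Basis (Fin r) (X.presheaf.stalk x) (F.presheaf.stalk x)) :
    ∃ V : X.Opens, x ∈ V ∧ Nonempty (F.restrict V.ι ≅ FlatMod.freeMod V r) := by
  haveI := hF.1
  obtain ⟨U, hU, hxU, -⟩ := exists_isAffineOpen_mem_and_subset (Opens.mem_top x)
  haveI := @QCoh.finite_sections_of_isFiniteType X F hF.1 hF.2 U hU
  haveI : IsNoetherianRing Γ(X, U) := IsLocallyNoetherian.component_noetherian ⟨U, hU⟩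
  obtain ⟨V, n, hxV, ⟨e⟩⟩ := Props.QProj.exists_free_nhd F hU hxU (Module.finitePresentation_of_finite _ _)
    (Module.Free.of_basis b)
  obtain ⟨W, hW, hxW, hWV⟩ := exists_isAffineOpen_mem_and_subset hxV
  obtain ⟨c⟩ := Props.QProj.free_sections_of_restrict_iso F e hW hWV
  letI := Props.QStalk.moduleSections F hxW
  letI := X.presheaf.algebra_section_stalk ⟨x, hxW⟩
  haveI : IsScalarTower Γ(X, W) (X.presheaf.stalk x) (F.presheaf.stalk x) :=
    IsScalarTower.of_algebraMap_smul fun _ _ ↦ rfl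
  haveI := Props.QStalk.isLocalizedModule_germLin F hxW hW
  haveI : IsLocalization.AtPrime (X.presheaf.stalk x) (hW.primeIdealOf ⟨x, hxW⟩).asIdeal :=
    hW.isLocalization_stalk ⟨x, hxW⟩
  let c' := c.ofIsLocalizedModule (X.presheaf.stalk x)
    (hW.primeIdealOf ⟨x, hxW⟩).asIdeal.primeCompl (Props.QStalk.germLin F hxW)
  obtain rfl : n = r := by simpa using Fintype.card_congr (c'.indexEquiv b)
  exact ⟨V, hxV, ⟨e⟩⟩

theorem isFinLocFreeOfRank_of_completion (A : Type u) [CommRing A] [IsNoetherianRing A]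
    (I : Ideal A) [IsAdicComplete I A] (X : Scheme.{u}) (f : X ⟶ Spec (CommRingCat.of A)) [IsProper f]
    (F : X.Modules) (hF : Coh.IsCoh F) (r : ℕ)
    (h : ∀ n : ℕ, FlatMod.IsFinLocFreeOfRank r
      ((Scheme.Modules.pullback ((((FSch.idealSpec A I).comap f) ^ (n + 1)).subschemeι)).obj F)) :
    FlatMod.IsFinLocFreeOfRank r F := by
  haveI : IsLocallyNoetherian X := LocallyOfFiniteType.isLocallyNoetherian f
  haveI : CompactSpace X := QuasiCompact.compactSpace_of_compactSpace f
  intro y
  obtain ⟨x, hxy, hxc⟩ := (isClosed_closure (s := ({y} : Set X))).exists_closed_singleton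
    (Set.singleton_nonempty y).closure
  have hfx : IsClosed ({f x} : Set (Spec (CommRingCat.of A))) := by
    rw [← Set.image_singleton]
    exact f.isClosedMap _ hxc
  have hmax : (f x : PrimeSpectrum A).asIdeal.IsMaximal := (PrimeSpectrum.isClosed_singleton_iff_isMaximal _).1 hfx
  have hle : I ≤ (f x : PrimeSpectrum A).asIdeal :=
    (IsAdicComplete.le_jacobson_bot I).trans (sInf_le ⟨bot_le, hmax⟩)
  have hx : x ∈ ((FSch.idealSpec A I).comap f).support := by
    rw [Scheme.IdealSheafData.support_comap]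
    show f x ∈ (FSch.idealSpec A I).support
    rw [FSch.idealSpec, ← SetLike.mem_coe, Scheme.Hom.support_ker]
    refine subset_closure ?_
    change (f x : PrimeSpectrum A) ∈ Set.range (PrimeSpectrum.comap (Ideal.Quotient.mk I))
    rw [range_comap_of_surjective _ _ Ideal.Quotient.mk_surjective, Ideal.mk_ker]
    exact hle
  obtain ⟨b⟩ := exists_basis_stalk _ F hF h x hx
  obtain ⟨V, hxV, hV⟩ := exists_free_nhd F hF x b
  exact ⟨V, (specializes_iff_mem_closure.2 hxy).mem_open V.2 hxV, hV⟩

end Groth.Agent.FComplNhd
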